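import Groth.Agent.H1.Central.ExtDefs

/-!
# H1/Central/ExtB: (B1) `bc_q a = 𝟙` iff the point `q` centralises `H`; (B2) centralising only
depends on the image of the point in `U = E/H` when `H` is commutative.
-/

set_option autoImplicit false
universe u
open CategoryTheory CategoryTheory.Limits MonoidalCategory CartesianMonoidalCategory MonObj GrpObj
  AlgebraicGeometry

noncomputable section

namespace Groth.Agent.H1.Central

variable {S : Scheme.{u}}

/-- (B1) -/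
theorem bc_eq_id_iff_centAt {K H : Over S} [GrpObj K] [GrpObj H] (i : H ⟶ K) [IsMonHom i] [Mono i]
    (a : Red.bc K.hom H ⟶ Red.bc K.hom H) (ha : ConjProp i a) {W : Scheme.{u}} (q : W ⟶ K.left) :
    (Over.pullback q).map a = 𝟙 _ ↔ CentAt i q := by
  constructor
  · intro hid T r hr t
    have h0 := ha T t
    rw [← h0]
    let T' : Over W := Over.mk r
    let θ : (Over.map q).obj T' ≅ T := Over.isoMk (Iso.refl _) (by simpa [T'] using hr.symm)
    have h1 : ((Over.mapPullbackAdj q).homEquiv T' (Red.bc K.hom H)) ((θ.hom ≫ adjE K H T t) ≫ a) =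
        ((Over.mapPullbackAdj q).homEquiv T' (Red.bc K.hom H)) (θ.hom ≫ adjE K H T t) := by
      rw [(Over.mapPullbackAdj q).homEquiv_naturality_right, hid, Category.comp_id]
    have h2 := ((Over.mapPullbackAdj q).homEquiv T' (Red.bc K.hom H)).injective h1
    rw [Category.assoc, cancel_epi] at h2
    rw [h2, Equiv.symm_apply_apply]
  · intro hc
    obtain ⟨T, hT⟩ : ∃ T : Over W, T = (Over.pullback q).obj (Red.bc K.hom H) := ⟨_, rfl⟩
    let t₁ : (Over.map q).obj T ⟶ Red.bc K.hom H :=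
      ((Over.mapPullbackAdj q).homEquiv T (Red.bc K.hom H)).symm (eqToHom hT)
    have key : t₁ ≫ a = t₁ := by
      have h1 := ha ((Over.map q).obj T) ((adjE K H _).symm t₁)
      rw [Equiv.apply_symm_apply, hc ((Over.map q).obj T) T.hom rfl ((adjE K H _).symm t₁)] at h1
      have h2 := (cancel_mono i).1 h1
      exact (adjE K H _).symm.injective h2
    have h3 : ((Over.mapPullbackAdj q).homEquiv T (Red.bc K.hom H)).symm
        (eqToHom hT ≫ (Over.pullback q).map a) = t₁ ≫ a :=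
      (Over.mapPullbackAdj q).homEquiv_naturality_right_symm _ _
    rw [key] at h3
    have h4 := ((Over.mapPullbackAdj q).homEquiv T (Red.bc K.hom H)).symm.injective h3
    subst hT
    simpa using h4

/-- (B2) -/
theorem centAt_of_eq_mod {E H U : Over S} [GrpObj E] [GrpObj H] [GrpObj U] (p : E ⟶ U) [IsMonHom p]
    (i : H ⟶ E) [IsMonHom i] (hker : AlgGrp.IsKernel i p)
    (hcomm : ∀ (T : Over S) (a b : T ⟶ H), a * b = b * a)
    {W : Scheme.{u}} (q₁ q₂ : W ⟶ E.left) (hq : q₁ ≫ p.left = q₂ ≫ p.left) (h₁ : CentAt i q₁) :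
    CentAt i q₂ := by
  intro T r hr t
  let T₁ : Over E.left := Over.mk (r ≫ q₁)
  have hw : ∀ q : W ⟶ E.left, q ≫ E.hom = (q ≫ p.left) ≫ U.hom := by
    intro q
    rw [Category.assoc, Over.w p]
  have hhom : (r ≫ q₁) ≫ E.hom = T.hom ≫ E.hom := by
    rw [← hr, Category.assoc, Category.assoc, hw q₁, hw q₂, hq]
  let θ : (Over.map E.hom).obj T₁ ≅ (Over.map E.hom).obj T :=
    Over.isoMk (Iso.refl _) (by simpa [T₁] using hhom.symm)
  -- the two points of `E`
  obtain ⟨k₂, hk₂⟩ : ∃ k₂ : (Over.map E.hom).obj T ⟶ E, k₂ = kT E T := ⟨_, rfl⟩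
  obtain ⟨k₁, hk₁⟩ : ∃ k₁ : (Over.map E.hom).obj T ⟶ E, k₁ = θ.inv ≫ kT E T₁ := ⟨_, rfl⟩
  have hkp : k₁ ≫ p = k₂ ≫ p := by
    apply Over.OverMorphism.ext
    rw [hk₁, hk₂]
    simp only [Over.comp_left, kT, Over.homMk_left, θ, Over.isoMk_inv_left, Iso.refl_inv, T₁,
      Over.mk_hom, Over.map_obj_left, Over.mk_left, Category.id_comp]
    rw [Category.assoc, hq, ← Category.assoc, hr]
  -- `k₁` centralises
  have hc₁ : k₁ * (t ≫ i) * k₁⁻¹ = t ≫ i := by
    have := h₁ T₁ r rfl (θ.hom ≫ t)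
    have h2 := congrArg (fun z => θ.inv ≫ z) this
    simp only [MonObj.comp_mul, GrpObj.comp_inv, Category.assoc, Iso.inv_hom_id_assoc] at h2
    rw [hk₁]
    exact h2
  -- the difference lies in `H`
  have hd : (k₁⁻¹ * k₂) ≫ p = toUnit _ ≫ η[U] := by
    rw [MonObj.mul_comp _ _ p, GrpObj.inv_comp, hkp, inv_mul_cancel, Hom.one_def]
  obtain ⟨h₀, hh₀⟩ : ∃ h₀ : (Over.map E.hom).obj T ⟶ H, h₀ ≫ i = k₁⁻¹ * k₂ :=
    ⟨hker.lift (k₁⁻¹ * k₂) (toUnit _) hd, hker.lift_fst _ _ _⟩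
  have hk : k₂ = k₁ * (h₀ ≫ i) := by
    rw [hh₀]; group
  have hconj : (h₀ ≫ i) * (t ≫ i) * (h₀ ≫ i)⁻¹ = t ≫ i := by
    rw [← GrpObj.inv_comp, ← MonObj.mul_comp _ _ i, ← MonObj.mul_comp _ _ i, hcomm _ h₀ t,
      mul_inv_cancel_right]
  rw [← hk₂, hk]
  calc k₁ * (h₀ ≫ i) * (t ≫ i) * (k₁ * (h₀ ≫ i))⁻¹
      = k₁ * ((h₀ ≫ i) * (t ≫ i) * (h₀ ≫ i)⁻¹) * k₁⁻¹ := by group
    _ = t ≫ i := by rw [hconj, hc₁]

end Groth.Agent.H1.Central
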