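import Groth.Agent.H1.Central.RigidOpen
import Groth.Agent.H1.Central.ExtB
import Groth.Prelude.Def_Red2

/-!
# H1/Central/CentNorm: the centralizer of a subgroup of multiplicative type is open and closed in
its normalizer: it is the locus of the normalizer where conjugation acts trivially.
-/

set_option autoImplicit false
universe u
open CategoryTheory CategoryTheory.Limits MonoidalCategory CartesianMonoidalCategory MonObj GrpObj
  AlgebraicGeometry

noncomputable section

namespace Groth.Agent.H1.Central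

variable {S : Scheme.{u}}

theorem isMonHom_of_mul' {A B : Over S} [GrpObj A] [GrpObj B] (f : A ⟶ B)
    (hmul : ∀ (T : Over S) (p q : T ⟶ A), (p * q) ≫ f = (p ≫ f) * (q ≫ f)) : IsMonHom f := by
  constructor
  · have h1 := hmul (𝟙_ (Over S)) 1 1
    rw [_root_.mul_one] at h1
    have h2 : (1 : 𝟙_ (Over S) ⟶ A) ≫ f = 1 := by
      have := congrArg (fun z => ((1 : 𝟙_ (Over S) ⟶ A) ≫ f)⁻¹ * z) h1
      simpa using this.symm
    have h3 : (1 : 𝟙_ (Over S) ⟶ A) = η[A] := by
      rw [Hom.one_def]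
      simp
    have h4 : (1 : 𝟙_ (Over S) ⟶ B) = η[B] := by
      rw [Hom.one_def]
      simp
    rw [h3, h4] at h2
    exact h2
  · have h1 := hmul _ (fst A A) (snd A A)
    rw [Hom.mul_def, Hom.mul_def, lift_fst_snd, Category.id_comp] at h1
    rw [h1, ← lift_fst_comp_snd_comp]

theorem centralizer_clopen_in_normalizer (H G Z N : Over S) [GrpObj H] [GrpObj G] [GrpObj Z]
    [GrpObj N] (hH : SGA3x.IsMultTypeFT H) (i : H ⟶ G) [IsMonHom i] [Mono i]
    (j : Z ⟶ G) (k : N ⟶ G) (hj : Red.IsCentralizerOf i j) (hk : Red.IsNormalizerOf i k) :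
    ∃ f : Z ⟶ N, f ≫ k = j ∧ IsOpenImmersion f.left ∧ IsClosedImmersion f.left := by
  obtain ⟨hjm, hjmono, hjc⟩ := hj
  obtain ⟨hkm, hkmono, hkc⟩ := hk
  haveI := hjm
  haveI := hjmono
  haveI := hkm
  haveI := hkmono
  -- Step 1
  have hf : ∃ f : Z ⟶ N, f ≫ k = j := by
    rw [hkc Z j]
    intro X' x h
    have hc := (hjc Z j).1 ⟨𝟙 Z, Category.id_comp _⟩ X' x h
    refine ⟨⟨h, ?_⟩, ⟨h, ?_⟩⟩
    · rw [hc]; group
    · rw [_root_.mul_assoc, ← hc]; group
  obtain ⟨f, hfk⟩ := hf
  -- Step 2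
  have hiN : ∃ iN : H ⟶ N, iN ≫ k = i := by
    rw [hkc H i]
    intro X' x h
    refine ⟨⟨x * h * x⁻¹, ?_⟩, ⟨x⁻¹ * h * x, ?_⟩⟩
    · rw [MonObj.mul_comp _ _ i, MonObj.mul_comp _ _ i, GrpObj.inv_comp]
    · rw [MonObj.mul_comp _ _ i, MonObj.mul_comp _ _ i, GrpObj.inv_comp]
  obtain ⟨iN, hiNk⟩ := hiN
  haveI : Mono (iN ≫ k) := by rw [hiNk]; infer_instance
  haveI : Mono iN := mono_of_mono iN k
  haveI : IsMonHom iN := isMonHom_of_mul' iN (fun T p q => by
    apply (cancel_mono k).1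
    rw [Category.assoc, hiNk, MonObj.mul_comp _ _ k, MonObj.mul_comp _ _ i, Category.assoc,
      Category.assoc, hiNk])
  have hn : AlgGrp.IsNormalHom iN := by
    intro T n h
    obtain ⟨⟨h', hh'⟩, -⟩ := (hkc T (n ≫ k)).1 ⟨n, rfl⟩ T (𝟙 T) h
    refine ⟨h', ?_⟩
    apply (cancel_mono k).1
    rw [MonObj.mul_comp _ _ k, MonObj.mul_comp _ _ k, GrpObj.inv_comp, Category.assoc,
      Category.assoc, hiNk, ← hh', Category.id_comp]
  -- Step 3
  obtain ⟨a, ha⟩ := exists_conjProp iN hn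
  haveI := isMonHom_of_conjProp iN a ha
  obtain ⟨S', fc, hfl, hsu, hfc, hch⟩ := hH
  haveI := hfl
  have hCov := Groth.Agent.H69.CentralC.cover_bc fc hfc N.hom
  have hloc := fun w => local_charts H fc N.hom (fun hM v _ y => classify_local_endo hM v y) hch a w
  obtain ⟨hclopen, -⟩ := Groth.Agent.H43.CentralR.rigid (Red.bc N.hom H) a (pullback.snd fc N.hom)
    hCov hloc
  obtain ⟨U, hUdef⟩ : ∃ U : N.left.Opens, (U : Set N.left) =
      {x : N.left | (Over.pullback (N.left.fromSpecResidueField x)).map a = 𝟙 _} :=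
    ⟨⟨_, hclopen.isOpen⟩, rfl⟩
  have hUmem : ∀ x : N.left, x ∈ U ↔ (Over.pullback (N.left.fromSpecResidueField x)).map a = 𝟙 _ := by
    intro x
    change x ∈ (U : Set N.left) ↔ _
    rw [hUdef]
    rfl
  have hUcl : IsClosed (U : Set N.left) := by rw [hUdef]; exact hclopen.isClosed
  -- Step 4
  have hUid : (Over.pullback U.ι).map a = 𝟙 _ :=
    rigid_open _ a _ hCov hloc U (fun x hx => (hUmem x).1 hx)
  have hcentU : CentAt iN U.ι := (bc_eq_id_iff_centAt iN a ha U.ι).1 hUid
  -- Step 5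
  obtain ⟨XU, hXU⟩ : ∃ XU : Over S, XU = Over.mk (U.ι ≫ N.hom) := ⟨_, rfl⟩
  subst hXU
  let nU : (Over.mk (U.ι ≫ N.hom) : Over S) ⟶ N := Over.homMk U.ι rfl
  have hzU : ∃ zU : (Over.mk (U.ι ≫ N.hom) : Over S) ⟶ Z, zU ≫ j = nU ≫ k := by
    rw [hjc _ (nU ≫ k)]
    intro X' x h
    let T : Over N.left := Over.mk (x.left ≫ U.ι)
    have hTX : ((Over.map N.hom).obj T).hom = X'.hom := by
      simp only [T, Over.map_obj_hom, Over.mk_hom, Category.assoc]
      exact Over.w x
    let e : (Over.map N.hom).obj T ≅ X' := Over.isoMk (Iso.refl _) (by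
      rw [Iso.refl_hom, Category.id_comp]; exact hTX.symm)
    have hkT : kT N T = e.hom ≫ x ≫ nU := by
      apply Over.OverMorphism.ext
      simp [kT, e, T, nU]
    have h1 := hcentU T x.left rfl (e.hom ≫ h)
    have h2 : (kT N T ≫ k) * ((e.hom ≫ h) ≫ i) * (kT N T ≫ k)⁻¹ = (e.hom ≫ h) ≫ i := by
      have := congrArg (fun w => w ≫ k) h1
      simp only [MonObj.mul_comp _ _ k, GrpObj.inv_comp, Category.assoc, hiNk] at this
      exact this
    rw [hkT] at h2
    have h3 := congrArg (fun w => e.inv ≫ w) h2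
    simp only [MonObj.comp_mul, GrpObj.comp_inv, Category.assoc, Iso.inv_hom_id_assoc] at h3
    exact mul_inv_eq_iff_eq_mul.1 h3
  obtain ⟨zU, hzU⟩ := hzU
  -- Step 6
  have hcentf : CentAt iN f.left := by
    intro T r hr t
    have hzT : r ≫ Z.hom = ((Over.map N.hom).obj T).hom := by
      simp only [Over.map_obj_hom]
      rw [← hr, Category.assoc, Over.w f]
    let zT : (Over.map N.hom).obj T ⟶ Z := Over.homMk r hzT
    have hkT : kT N T = zT ≫ f := by
      apply Over.OverMorphism.ext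
      simp [zT, kT, hr]
    have hc := (hjc Z j).1 ⟨𝟙 Z, Category.id_comp _⟩ _ zT t
    apply (cancel_mono k).1
    rw [MonObj.mul_comp _ _ k, MonObj.mul_comp _ _ k, GrpObj.inv_comp, Category.assoc, hiNk, hkT,
      Category.assoc, hfk, hc]
    group
  have hfid : (Over.pullback f.left).map a = 𝟙 _ := (bc_eq_id_iff_centAt iN a ha f.left).2 hcentf
  have hrange : ∀ z : Z.left, f.left.base z ∈ U := by
    intro z
    rw [hUmem]
    have h1 : (Over.pullback (Z.left.fromSpecResidueField z)).map ((Over.pullback f.left).map a) =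
        𝟙 _ := by
      rw [hfid, CategoryTheory.Functor.map_id]
    have hcomm := Scheme.Hom.SpecMap_residueFieldMap_fromSpecResidueField f.left z
    have h2 := (eq_id_bc_comp _ _ _ rfl a).1 h1
    have h3 := (eq_id_bc_comp _ _ _ hcomm a).2 h2
    obtain ⟨hfl', hsu', hqc'⟩ := Groth.Agent.H43.MT.field_map_props (Field.toIsField _)
      (Field.toIsField _) (f.left.residueFieldMap z)
    exact eq_id_of_bc (Spec.map (f.left.residueFieldMap z)) _ h3
  -- Step 7
  have hr : Set.range f.left.base ⊆ Set.range U.ι.base := by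
    rintro _ ⟨z, rfl⟩
    rw [Scheme.Opens.range_ι]
    exact hrange z
  let f' : Z.left ⟶ (U : Scheme.{u}) := IsOpenImmersion.lift U.ι f.left hr
  have hf' : f' ≫ U.ι = f.left := IsOpenImmersion.lift_fac _ _ _
  haveI : Mono k.left := (Over.forget S).map_mono k
  haveI : Mono j.left := (Over.forget S).map_mono j
  have hfkl : f.left ≫ k.left = j.left := by rw [← Over.comp_left, hfk]
  have hzUl : zU.left ≫ j.left = U.ι ≫ k.left := by
    rw [← Over.comp_left, hzU]
    rfl
  have e1 : zU.left ≫ f' = 𝟙 _ := by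
    rw [← cancel_mono U.ι, ← cancel_mono k.left]
    rw [Category.assoc, Category.assoc, ← Category.assoc f', hf', hfkl, hzUl, Category.id_comp]
  have e2 : f' ≫ zU.left = 𝟙 _ := by
    rw [← cancel_mono j.left, Category.assoc, hzUl, ← Category.assoc, hf', hfkl, Category.id_comp]
  haveI : IsIso f' := ⟨zU.left, e2, e1⟩
  refine ⟨f, hfk, ?_, ?_⟩
  · rw [← hf']; infer_instance
  · haveI : IsClosedImmersion U.ι :=
      IsClosedImmersion.of_isPreimmersion _ (by rw [Scheme.Opens.range_ι]; exact hUcl)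
    rw [← hf']; infer_instance

end Groth.Agent.H1.Central
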