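import Groth.Agent.H1.Central.ExtDefs
import Groth.Agent.H91.KummerKer

/-!
# H1/Central/ExtComm: a group of multiplicative type is commutative (on points).
-/

set_option autoImplicit false
universe u
open CategoryTheory CategoryTheory.Limits MonoidalCategory CartesianMonoidalCategory MonObj GrpObj
  AlgebraicGeometry

noncomputable section

namespace Groth.Agent.H1.Central

variable {S : Scheme.{u}}

theorem DS_comm {Y : Scheme.{u}} {M : Type} [AddCommGroup M] {T : Over Y} (a b : T ⟶ Red.DS Y M) :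
    a * b = b * a := by
  apply Groth.Agent.H1.SplitTori.hom_ext_chi
  intro m
  haveI := Groth.Agent.H91.KummerKer.chi_isMonHom Y m
  rw [MonObj.mul_comp _ _ (Red.chi Y m), MonObj.mul_comp _ _ (Red.chi Y m)]
  apply Groth.Agent.H1.SplitTori.gm_ext
  rw [GmPts.gmFn_mul, GmPts.gmFn_mul, mul_comm]

/-- (COMM) -/
theorem multTypeFT_comm {H : Over S} [GrpObj H] (hH : SGA3x.IsMultTypeFT H) :
    ∀ (T : Over S) (a b : T ⟶ H), a * b = b * a := by
  obtain ⟨S', f, hfl, hsu, -, hch⟩ := hH
  haveI := hfl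
  haveI := hsu
  intro T a b
  apply Over.OverMorphism.ext
  haveI : Epi (pullback.fst T.hom f) := Flat.epi_of_flat_of_surjective _
  rw [← cancel_epi (pullback.fst T.hom f)]
  apply Scheme.hom_ext_of_forall
  intro w
  obtain ⟨U, hU, M, _, -, ⟨e⟩⟩ := hch ((pullback.snd T.hom f).base w)
  let W : (pullback T.hom f).Opens := (pullback.snd T.hom f) ⁻¹ᵁ U
  refine ⟨W, hU, ?_⟩
  have hr : Set.range (W.ι ≫ pullback.snd T.hom f).base ⊆ Set.range U.ι.base := by
    rintro _ ⟨x, rfl⟩
    rw [Scheme.Opens.range_ι]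
    exact x.2
  let k : (W : Scheme.{u}) ⟶ (U : Scheme.{u}) :=
    IsOpenImmersion.lift U.ι (W.ι ≫ pullback.snd T.hom f) hr
  have hk : k ≫ U.ι = W.ι ≫ pullback.snd T.hom f := IsOpenImmersion.lift_fac _ _ _
  let TW : Over (U : Scheme.{u}) := Over.mk k
  have hρ : (W.ι ≫ pullback.fst T.hom f) ≫ T.hom = ((Over.map (U.ι ≫ f)).obj TW).hom := by
    simp only [TW, Over.map_obj_hom, Over.mk_hom, Category.assoc]
    rw [pullback.condition, reassoc_of% hk]
  let ρ : (Over.map (U.ι ≫ f)).obj TW ⟶ T := Over.homMk (W.ι ≫ pullback.fst T.hom f) hρ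
  have key : ρ ≫ (a * b) = ρ ≫ (b * a) := by
    rw [MonObj.comp_mul, MonObj.comp_mul]
    apply ((Over.mapPullbackAdj (U.ι ≫ f)).homEquiv TW H).injective
    rw [AlgGrp.Action.homEquiv_mul, AlgGrp.Action.homEquiv_mul]
    let e₀ := Groth.Agent.H91.MultGa.isoOfGrpIso e
    apply (cancel_mono e₀.hom).1
    rw [MonObj.mul_comp _ _ e₀.hom, MonObj.mul_comp _ _ e₀.hom]
    exact DS_comm _ _
  have := congrArg (fun z => z.left) key
  simpa [ρ] using this

end Groth.Agent.H1.Central
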