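import Groth.Agent.H1.Central.Main

/-!
# H1/Central/ExtDefs: "the point `q` of `K` centralises `H`" (universally), for the proof that an
extension of a group with connected fibres by a group of multiplicative type is central.
-/

set_option autoImplicit false
universe u
open CategoryTheory CategoryTheory.Limits MonoidalCategory CartesianMonoidalCategory MonObj GrpObj
  AlgebraicGeometry

noncomputable section

namespace Groth.Agent.H1.Central

variable {S : Scheme.{u}}

/-- the `W`-point `q` of `K` centralises `H`, after any base change. -/
def CentAt {K H : Over S} [GrpObj K] [GrpObj H] (i : H ⟶ K) {W : Scheme.{u}} (q : W ⟶ K.left) :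
    Prop :=
  ∀ (T : Over K.left) (r : T.left ⟶ W), r ≫ q = T.hom → ∀ t : (Over.map K.hom).obj T ⟶ H,
    kT K T * (t ≫ i) * (kT K T)⁻¹ = t ≫ i

end Groth.Agent.H1.Central
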