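import Groth.Agent.H1.Central.ExtB
import Groth.Agent.H1.Central.ExtComm
import Groth.Agent.H17.ExtKN
import Groth.Agent.H17.ExtTOP
import Groth.Agent.H17.ExtSAT

/-!
# H1/Central/ExtMain: an extension of a group with connected fibres by a group of multiplicative
type (of finite type) is central.  Assembly.
-/

set_option autoImplicit false
universe u
open CategoryTheory CategoryTheory.Limits MonoidalCategory CartesianMonoidalCategory MonObj GrpObj
  AlgebraicGeometry

noncomputable section

namespace Groth.Agent.H1.Central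

variable {S : Scheme.{u}}

theorem main_ext {E H U : Over S} [GrpObj E] [GrpObj H] [GrpObj U]
    (p : E ⟶ U) [IsMonHom p] [Surjective p.left] [Flat p.left] [QuasiCompact p.left]
    (i : H ⟶ E) [IsMonHom i] (hker : AlgGrp.IsKernel i p) (hH : SGA3x.IsMultTypeFT H)
    (hU : ∀ s : S, _root_.IsConnected (U.hom.base ⁻¹' {s})) :
    ∀ (X : Over S) (h : X ⟶ H) (e : X ⟶ E), (h ≫ i) * e = e * (h ≫ i) := by
  obtain ⟨hmono, hn⟩ := Groth.Agent.H17.ExtKN.kernel_mono_normal p i hker
  haveI := hmono
  have hcomm := multTypeFT_comm hH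
  obtain ⟨a, ha⟩ := exists_conjProp i hn
  haveI := isMonHom_of_conjProp i a ha
  obtain ⟨S', f, hfl, hsu, hf, hch⟩ := hH
  haveI := hfl
  obtain ⟨hclopen, hall⟩ := Groth.Agent.H43.CentralR.rigid (Red.bc E.hom H) a (pullback.snd f E.hom)
    (Groth.Agent.H69.CentralC.cover_bc f hf E.hom)
    (fun w => local_charts H f E.hom (fun hM v _ y => classify_local_endo hM v y) hch a w)
  have hη : η[E].left ≫ E.hom = 𝟙 S := Over.w η[E]
  have huniv := Groth.Agent.H17.ExtTOP.eq_univ_of_saturated p η[E].left hη hU _ hclopen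
    (fun x y hxy hx => Groth.Agent.H17.ExtSAT.locus_saturated p i hker hcomm a ha
      (fun q => bc_eq_id_iff_centAt i a ha q)
      (fun q₁ q₂ hq h₁ => centAt_of_eq_mod p i hker hcomm q₁ q₂ hq h₁) x y hxy hx)
    (fun s => unit_mem i a ha s)
  have hid : a = 𝟙 _ := hall (fun x => by
    have : x ∈ {x : E.left | (Over.pullback (E.left.fromSpecResidueField x)).map a = 𝟙 _} := by
      rw [huniv]; trivial
    exact this)
  rw [hid] at ha
  intro X h e
  exact (central_of_conjProp_id i ha X e h).symm

end Groth.Agent.H1.Central
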