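import Groth.Agent.H43.CentralR

/-!
# H1/Central/RigidOpen: variant of helper43's `rigid`: if the fibres of `v` over the points of an
open `U` are identities then `v` is the identity over `U`.
-/

set_option autoImplicit false
universe u
open CategoryTheory CategoryTheory.Limits AlgebraicGeometry

noncomputable section

namespace Groth.Agent.H1.Central

open Groth.Agent.H43.CentralR

theorem rigid_open {X S₃ : Scheme.{u}} (A : Over X) (v : A ⟶ A) (g₃ : S₃ ⟶ X)
    (hCov : ∀ x : X, ∃ V : X.Opens, x ∈ V ∧ ∃ (Pc : Scheme.{u}) (a : Pc ⟶ (V : Scheme.{u}))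
      (p : Pc ⟶ S₃), Flat a ∧ Surjective a ∧ QuasiCompact a ∧ p ≫ g₃ = a ≫ V.ι)
    (hloc : ∀ w : S₃, ∃ (Y : Scheme.{u}) (j : Y ⟶ S₃), IsOpenImmersion j ∧ w ∈ Set.range j.base ∧
      ∃ (M : Type) (_ : AddCommGroup M) (φ : M →+ M)
        (α : (Over.pullback (j ≫ g₃)).obj A ≅ Red.DS Y M),
        (Over.pullback (j ≫ g₃)).map v ≫ α.hom = α.hom ≫ Red.DSmap Y φ)
    (U : X.Opens)
    (hU : ∀ x : X, x ∈ U → (Over.pullback (X.fromSpecResidueField x)).map v = 𝟙 _) :
    (Over.pullback U.ι).map v = 𝟙 _ := by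
  apply eq_id_zariski_local
  intro b
  obtain ⟨z, hz⟩ : ∃ z : (U : Scheme.{u}), z = ((Over.pullback U.ι).obj A).hom.base b := ⟨_, rfl⟩
  rw [← hz]
  obtain ⟨V, hxV, Pc, a, p, hafl, hasu, haqc, hpa⟩ := hCov (U.ι.base z)
  obtain ⟨W, hW⟩ : ∃ W : X.Opens, W = V ⊓ U := ⟨_, rfl⟩
  have hWU : W ≤ U := hW ▸ inf_le_right
  have hWV : W ≤ V := hW ▸ inf_le_left
  have hzW : U.ι.base z ∈ W := by
    rw [hW]
    refine ⟨hxV, ?_⟩
    have : U.ι.base z = z.1 := rfl
    rw [this]; exact z.2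
  refine ⟨W, X.homOfLE hWU, inferInstance, ?_, ?_⟩
  · refine ⟨⟨U.ι.base z, hzW⟩, ?_⟩
    apply U.ι.isOpenEmbedding.injective
    have h1 : U.ι.base ((X.homOfLE hWU).base ⟨U.ι.base z, hzW⟩) =
        (X.homOfLE hWU ≫ U.ι).base ⟨U.ι.base z, hzW⟩ := rfl
    rw [h1, X.homOfLE_ι hWU]
    rfl
  · refine (eq_id_bc_comp (X.homOfLE hWU) U.ι W.ι (X.homOfLE_ι hWU) v).2 ?_
    have := hafl
    have := hasu
    have := haqc
    -- the cover of `W`
    let a' : pullback a (X.homOfLE hWV) ⟶ (W : Scheme.{u}) := pullback.snd a (X.homOfLE hWV)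
    let p' : pullback a (X.homOfLE hWV) ⟶ S₃ := pullback.fst a (X.homOfLE hWV) ≫ p
    have hpa' : p' ≫ g₃ = a' ≫ W.ι := by
      dsimp only [p', a']
      rw [Category.assoc, hpa, ← Category.assoc, pullback.condition, Category.assoc,
        X.homOfLE_ι hWV]
    apply eq_id_of_bc a'
    refine (eq_id_bc_comp a' W.ι (p' ≫ g₃) hpa'.symm v).2 ?_
    apply eq_id_zariski_local
    intro b'
    obtain ⟨y, hy⟩ : ∃ y : ↥(pullback a (X.homOfLE hWV)),
        y = ((Over.pullback (p' ≫ g₃)).obj A).hom.base b' := ⟨_, rfl⟩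
    rw [← hy]
    obtain ⟨Y, j, hj, hw, M, iM, φ, α, hα⟩ := hloc (p'.base y)
    have := hj
    obtain ⟨x, hx⟩ := hw
    have hs : Conj ((Over.pullback (j ≫ g₃)).map v) (Red.DSmap Y φ) := ⟨α, hα⟩
    have hPalg : φ = AddMonoidHom.id M := by
      apply (fibre_iff (j ≫ g₃) v φ hs x).1
      have e1 : (j ≫ g₃).base x = W.ι.base (a'.base y) := by
        have h2 : (j ≫ g₃).base x = (p' ≫ g₃).base y := by
          show g₃.base (j.base x) = g₃.base (p'.base y)
          rw [hx]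
        rw [h2, hpa']
        rfl
      rw [e1]
      apply hU
      apply hWU
      have : W.ι.base (a'.base y) = (a'.base y).1 := rfl
      rw [this]
      exact (a'.base y).2
    refine ⟨pullback p' j, pullback.fst p' j, inferInstance, ?_, ?_⟩
    · rw [Scheme.Pullback.range_fst]
      exact ⟨x, hx⟩
    · have c1 : pullback.fst p' j ≫ p' ≫ g₃ = pullback.snd p' j ≫ j ≫ g₃ := by
        rw [← Category.assoc, pullback.condition, Category.assoc]
      have t1 := Conj.bc_comp (pullback.fst p' j) (p' ≫ g₃) _ c1 v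
      have t2 := Conj.bc_comp (pullback.snd p' j) (j ≫ g₃) _ rfl v
      have t3 := Conj.map (pullback.snd p' j) hs
      have t4 := Conj.dsmap (pullback.snd p' j) φ
      refine ((t1.trans t2.symm).trans (t3.trans t4)).iff.2 ?_
      rw [hPalg]
      exact Groth.Agent.H27.DiagHom.DSmap_id _

end Groth.Agent.H1.Central
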